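import Mathlib
import Cfsg.Agent.Lib.S4292.Defs
import Cfsg.Agent.Lib.S4292.PA
import Cfsg.Agent.Lib.S4292.PB
import Cfsg.Agent.Lib.S4292.PC3
import Cfsg.Agent.Lib.S4292.PD1

set_option autoImplicit false

namespace Cfsg.Agent.S3357L

open Cfsg.Agent.S4292L

universe u

/-- A: characteristic 0 of `Lam G` for a Frobenius complement -/
theorem A_hchar {G : Type u} [Group G] [Finite G] (h : IsFC G) :
    ∀ D : ℤ, (D : Lam G) = 0 → D = 0 := by
  obtain ⟨q, hq, hqA, hM⟩ := PA_exists_fpfMod_of_isFC h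
  haveI : Fact q.Prime := ⟨hq⟩
  obtain ⟨d, hd, hmat⟩ := PB_fpfMat_of_fpfMod hM
  exact fun D hD => PD1_intCast_eq_zero hq hd (fun k hk => PC_fpfMat_lift hqA hmat k hk) D hD

/-- B3: `Lam G` is a finitely generated abelian group -/
theorem B3_finite {G : Type u} [Group G] [Finite G] : Module.Finite ℤ (Lam G) := by
  classical
  haveI : Fintype G := Fintype.ofFinite G
  let π : MonoidAlgebra ℤ G →+* Lam G := RingQuot.mkRingHom (relN G)
  have hπsurj : Function.Surjective π := RingQuot.mkRingHom_surjective (relN G)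
  exact Module.Finite.of_surjective (π.toAddMonoidHom.toIntLinearMap) hπsurj

end Cfsg.Agent.S3357L
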