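import Mathlib
import Cfsg.Agent.Lib.S4292.Defs

set_option autoImplicit false

namespace Cfsg.Agent.S3357L

open Cfsg.Agent.S4292L

universe u

/-- the `ℤ`-torsion of a ring as a left ideal -/
def Q1_T (R : Type u) [Ring R] : Submodule R R where
  carrier := {x | ∃ n : ℤ, n ≠ 0 ∧ n • x = 0}
  zero_mem' := ⟨1, one_ne_zero, by simp⟩
  add_mem' := by
    rintro x y ⟨n, hn, hx⟩ ⟨m, hm, hy⟩
    refine ⟨n * m, mul_ne_zero hn hm, ?_⟩
    rw [smul_add, mul_comm n m, mul_smul, hx, smul_zero, mul_comm m n, mul_smul, hy, smul_zero,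
      add_zero]
  smul_mem' := by
    rintro c x ⟨n, hn, hx⟩
    refine ⟨n, hn, ?_⟩
    rw [smul_eq_mul, ← mul_smul_comm, hx, mul_zero]

theorem Q1_exists_int_rep {A : Type u} [Group A] [Finite A]
    (hchar : ∀ D : ℤ, (D : Lam A) = 0 → D = 0) :
    ∃ (r : ℕ) (σ : A →* Matrix (Fin r) (Fin r) ℤ), 0 < r ∧
      ∀ a : A, a ≠ 1 → ∑ i ∈ Finset.range (orderOf a), σ (a ^ i) = 0 := by
  classical
  let R := Lam A
  let π : MonoidAlgebra ℤ A →+* R := RingQuot.mkRingHom (relN A)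
  have hπsurj : Function.Surjective π := RingQuot.mkRingHom_surjective (relN A)
  let φ₀ : A →* R := π.toMonoidHom.comp (MonoidAlgebra.of ℤ A)
  have hfinR : Module.Finite ℤ R :=
    Module.Finite.of_surjective (π.toAddMonoidHom.toIntLinearMap) hπsurj
  let T : Submodule R R := Q1_T R
  let Q := R ⧸ T
  have hfinQ : Module.Finite ℤ Q :=
    Module.Finite.of_surjective (T.mkQ.toAddMonoidHom.toIntLinearMap) (Submodule.mkQ_surjective T)
  have htf : NoZeroSMulDivisors ℤ Q := by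
    constructor
    intro n x hnx
    by_cases hn : n = 0
    · exact Or.inl hn
    right
    obtain ⟨y, rfl⟩ := Submodule.Quotient.mk_surjective T x
    have h1 : n • y ∈ T := by
      rw [← Submodule.Quotient.mk_eq_zero, ← hnx]
      rfl
    obtain ⟨m, hm, hmy⟩ := h1
    rw [Submodule.Quotient.mk_eq_zero]
    exact ⟨m * n, mul_ne_zero hm hn, by rw [mul_smul]; exact hmy⟩
  have hnt : Nontrivial Q := by
    rw [Submodule.Quotient.nontrivial_iff]
    intro htop
    have h1 : (1 : R) ∈ T := by rw [htop]; trivial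
    obtain ⟨n, hn, h1n⟩ := h1
    apply hn
    apply hchar
    rw [zsmul_eq_mul, mul_one] at h1n
    exact h1n
  haveI := hfinQ
  haveI := htf
  haveI := hnt
  haveI : Module.Free ℤ Q := Module.free_of_finite_type_torsion_free'
  let b := Module.finBasis ℤ Q
  let Ψ : R →+* Matrix (Fin (Module.finrank ℤ Q)) (Fin (Module.finrank ℤ Q)) ℤ :=
    ((LinearMap.toMatrixAlgEquiv b).toRingEquiv.toRingHom).comp (Module.toModuleEnd ℤ (S := R) Q)
  refine ⟨Module.finrank ℤ Q, Ψ.toMonoidHom.comp φ₀, Module.finrank_pos, ?_⟩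
  intro a ha
  have hrel : relN A (∑ i ∈ Finset.range (orderOf a), MonoidAlgebra.of ℤ A (a ^ i)) 0 :=
    ⟨a, ha, rfl, rfl⟩
  have h1 := RingQuot.mkRingHom_rel hrel
  rw [map_zero, map_sum] at h1
  have h2 : ∀ x : A, (Ψ.toMonoidHom.comp φ₀) x = Ψ (π (MonoidAlgebra.of ℤ A x)) := fun _ => rfl
  simp only [h2]
  rw [← map_sum]
  have h3 : (∑ i ∈ Finset.range (orderOf a), π (MonoidAlgebra.of ℤ A (a ^ i))) = 0 := h1
  rw [h3, map_zero]

end Cfsg.Agent.S3357L
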