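import Mathlib
import Cfsg.Agent.Lib.S4292.Defs

set_option autoImplicit false

namespace Cfsg.Agent.S3357L

open Cfsg.Agent.S4292L

universe u

/-- Q2a (file Q2a.lean): a minimal nonzero invariant subspace -/
theorem Q2a_exists_minimal {G : Type u} [Group G] {K : Type} [Field K] {r : ℕ} (hr : 0 < r)
    (ρ₀ : G →* Matrix (Fin r) (Fin r) K) :
    ∃ W : Submodule K (Fin r → K), W ≠ ⊥ ∧ (∀ g, ∀ w ∈ W, (ρ₀ g).mulVec w ∈ W) ∧
      ∀ U : Submodule K (Fin r → K), U ≤ W → (∀ g, ∀ w ∈ U, (ρ₀ g).mulVec w ∈ U) →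
        U = ⊥ ∨ U = W := by
  let S : Set (Submodule K (Fin r → K)) :=
    {W | W ≠ ⊥ ∧ ∀ g, ∀ w ∈ W, (ρ₀ g).mulVec w ∈ W}
  have hne : S.Nonempty := by
    refine ⟨⊤, ?_, fun _ _ _ => Submodule.mem_top⟩
    have : Nonempty (Fin r) := ⟨⟨0, hr⟩⟩
    have : Nontrivial (Fin r → K) := inferInstance
    exact top_ne_bot
  have hwf : WellFounded
      ((· < ·) : Submodule K (Fin r → K) → Submodule K (Fin r → K) → Prop) := wellFounded_lt
  obtain ⟨W, hWS, hmin⟩ := hwf.has_min S hne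
  refine ⟨W, hWS.1, hWS.2, ?_⟩
  intro U hUW hU
  by_cases h0 : U = ⊥
  · left; exact h0
  · right
    have : ¬ U < W := hmin U ⟨h0, hU⟩
    exact eq_of_le_of_not_lt hUW this

end Cfsg.Agent.S3357L
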