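import Mathlib
import Cfsg.Agent.Lib.S4292.Defs

set_option autoImplicit false

namespace Cfsg.Agent.S3357L

open Cfsg.Agent.S4292L

universe u

/-- Q2b (file Q2b.lean): coordinates on an invariant subspace -/
theorem Q2b_coordinatize {G : Type u} [Group G] {K : Type} [Field K] {r : ℕ}
    (ρ₀ : G →* Matrix (Fin r) (Fin r) K) (W : Submodule K (Fin r → K)) (hW0 : W ≠ ⊥)
    (hWinv : ∀ g, ∀ w ∈ W, (ρ₀ g).mulVec w ∈ W) :
    ∃ (n : ℕ) (ρ : G →* GL (Fin n) K) (j : (Fin n → K) →ₗ[K] (Fin r → K)), 0 < n ∧
      Function.Injective j ∧ LinearMap.range j = W ∧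
      (∀ g w, j (((ρ g : GL (Fin n) K) : Matrix (Fin n) (Fin n) K).mulVec w) =
        (ρ₀ g).mulVec (j w)) := by
  classical
  let b : Module.Basis (Fin (Module.finrank K W)) K W := Module.finBasis K W
  -- the restricted operators
  let T : G → Module.End K W := fun g =>
    (Matrix.toLin' (ρ₀ g)).restrict
      (p := W) (q := W) (fun w hw => by simpa [Matrix.toLin'_apply] using hWinv g w hw)
  have hT_apply : ∀ g (w : W), ((T g w : W) : Fin r → K) = (ρ₀ g).mulVec (w : Fin r → K) := by
    intro g w
    simp [T, LinearMap.restrict_apply, Matrix.toLin'_apply]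
  let Thom : G →* Module.End K W :=
    { toFun := T
      map_one' := by
        apply LinearMap.ext
        intro w
        apply Subtype.ext
        rw [hT_apply]
        simp
      map_mul' := by
        intro g h
        apply LinearMap.ext
        intro w
        apply Subtype.ext
        rw [hT_apply]
        simp only [Module.End.mul_apply]
        rw [hT_apply, hT_apply]
        simp [Matrix.mulVec_mulVec] }
  let Mhom : G →* Matrix (Fin (Module.finrank K W)) (Fin (Module.finrank K W)) K :=
    ((LinearMap.toMatrixAlgEquiv b : Module.End K W ≃ₐ[K] _) :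
      Module.End K W →* Matrix (Fin (Module.finrank K W)) (Fin (Module.finrank K W)) K).comp Thom
  let e : (Fin (Module.finrank K W) → K) ≃ₗ[K] W := b.equivFun.symm
  let j : (Fin (Module.finrank K W) → K) →ₗ[K] (Fin r → K) := W.subtype.comp e.toLinearMap
  have hj_apply : ∀ x, j x = ((e x : W) : Fin r → K) := fun x => rfl
  have he : ∀ (g : G) (x : Fin (Module.finrank K W) → K),
      ((e (((Mhom.toHomUnits g : GL (Fin (Module.finrank K W)) K) :
        Matrix (Fin (Module.finrank K W)) (Fin (Module.finrank K W)) K).mulVec x) : W) :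
          Fin r → K) = (ρ₀ g).mulVec ((e x : W) : Fin r → K) := by
    intro g x
    have h1 : ((Mhom.toHomUnits g : GL (Fin (Module.finrank K W)) K) :
        Matrix (Fin (Module.finrank K W)) (Fin (Module.finrank K W)) K) =
        LinearMap.toMatrix b b (T g) := rfl
    rw [h1, ← hT_apply]
    congr 1
    apply b.equivFun.injective
    show b.equivFun (b.equivFun.symm _) = _
    rw [LinearEquiv.apply_symm_apply]
    have h2 := LinearMap.toMatrix_mulVec_repr b b (T g) (b.equivFun.symm x)
    have h3 : (⇑(b.repr (b.equivFun.symm x)) : Fin (Module.finrank K W) → K) = x :=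
      b.equivFun.apply_symm_apply x
    rw [h3] at h2
    rw [h2]
    rfl
  refine ⟨Module.finrank K W, Mhom.toHomUnits, j, ?_, ?_, ?_, ?_⟩
  · have : Nontrivial W := (Submodule.nontrivial_iff_ne_bot).mpr hW0
    exact Module.finrank_pos
  · intro x y hxy
    rw [hj_apply, hj_apply] at hxy
    exact e.injective (Subtype.ext hxy)
  · apply le_antisymm
    · rintro _ ⟨x, rfl⟩
      exact (e x).2
    · intro w hw
      refine ⟨e.symm ⟨w, hw⟩, ?_⟩
      rw [hj_apply, LinearEquiv.apply_symm_apply]
  · intro g w
    rw [hj_apply, hj_apply]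
    exact he g w

end Cfsg.Agent.S3357L
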