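import Mathlib
import Cfsg.Agent.Lib.S4292.Defs
import Cfsg.Agent.Lib.S3357.Q2a
import Cfsg.Agent.Lib.S3357.Q2b

set_option autoImplicit false

namespace Cfsg.Agent.S3357L

open Cfsg.Agent.S4292L

universe u

/-- Q2 (helper1): an irreducible subrepresentation in coordinates -/
theorem Q2_exists_irreducible_sub {G : Type u} [Group G] {K : Type} [Field K] {r : ℕ} (hr : 0 < r)
    (ρ₀ : G →* Matrix (Fin r) (Fin r) K) :
    ∃ (n : ℕ) (ρ : G →* GL (Fin n) K) (j : (Fin n → K) →ₗ[K] (Fin r → K)), 0 < n ∧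
      Function.Injective j ∧
      (∀ g w, j (((ρ g : GL (Fin n) K) : Matrix (Fin n) (Fin n) K).mulVec w) =
        (ρ₀ g).mulVec (j w)) ∧
      (∀ W : Submodule K (Fin n → K),
        (∀ g : G, ∀ w ∈ W, ((ρ g : GL (Fin n) K) : Matrix (Fin n) (Fin n) K).mulVec w ∈ W) →
          W = ⊥ ∨ W = ⊤) := by
  obtain ⟨W, hW0, hWinv, hWmin⟩ := Q2a_exists_minimal hr ρ₀
  obtain ⟨n, ρ, j, hn, hj, hrange, hint⟩ := Q2b_coordinatize ρ₀ W hW0 hWinv
  refine ⟨n, ρ, j, hn, hj, hint, ?_⟩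
  intro U hU
  have h1 : U.map j ≤ W := by
    rw [← hrange]; exact LinearMap.map_le_range
  have h2 : ∀ g, ∀ w ∈ U.map j, (ρ₀ g).mulVec w ∈ U.map j := by
    rintro g w ⟨u, hu, rfl⟩
    rw [← hint]
    exact ⟨_, hU g u hu, rfl⟩
  rcases hWmin (U.map j) h1 h2 with h | h
  · left
    rw [← Submodule.map_bot j] at h
    exact Submodule.map_injective_of_injective hj h
  · right
    rw [← hrange, LinearMap.range_eq_map] at h
    exact Submodule.map_injective_of_injective hj h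

end Cfsg.Agent.S3357L
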